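import Cfsg.Agent.Lib.Qd.Unstable

/-!
# A quadratic element on an irreducible module gives a section `SL₂(p)` of the acting group
-/

set_option autoImplicit false
set_option linter.style.haveILetI false
set_option linter.unusedSectionVars false

namespace CfsgLib.QuadSimple

universe u

open Subgroup
open scoped commutatorElement

variable {G : Type u} [Group G] [Finite G] {p : ℕ} [Fact p.Prime]

theorem pCore_eq_bot_of_irreducible (V H : Subgroup G) (hV : Cfsg.IsElementaryAbelian p V)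
    (hHV : H ≤ normalizer (V : Set G))
    (hirr : ∀ U : Subgroup G, U ≤ V → H ≤ normalizer (U : Set G) → U = ⊥ ∨ U = V) (hV1 : V ≠ ⊥)
    [hn : ((centralizer (V : Set G)).subgroupOf H).Normal] :
    Cfsg.pCore p (↥H ⧸ (centralizer (V : Set G)).subgroupOf H) = ⊥ := by
  classical
  obtain ⟨π, hπ⟩ : ∃ π : ↥H →* ↥H ⧸ (centralizer (V : Set G)).subgroupOf H,
      π = QuotientGroup.mk' _ := ⟨_, rfl⟩
  have hπs : Function.Surjective π := hπ ▸ QuotientGroup.mk'_surjective _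
  obtain ⟨N, hN⟩ : ∃ N, N = Cfsg.pCore p (↥H ⧸ (centralizer (V : Set G)).subgroupOf H) := ⟨_, rfl⟩
  have hNp : IsPGroup p N := by
    rw [hN]; exact CfsgLib.Coprime.pCore_isPGroup p
  have hNn : N.Normal := hN ▸ CfsgLib.Coprime.pCore_normal' p
  rw [← hN]
  by_contra hne
  obtain ⟨P⟩ := (inferInstance : Nonempty (Sylow p ↥(N.comap π)))
  have hsurj : Function.Surjective (π.subgroupComap N) := fun q => by
    obtain ⟨y, hy⟩ := hπs q
    exact ⟨⟨y, show π y ∈ N by rw [hy]; exact q.2⟩, Subtype.ext hy⟩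
  have htop : ((P.mapSurjective hsurj : Sylow p N) : Subgroup N) = ⊤ :=
    ((P.mapSurjective hsurj).is_maximal' (hNp.of_equiv Subgroup.topEquiv.symm) le_top).symm
  obtain ⟨Q, hQ⟩ : ∃ Q : Subgroup G,
      Q = ((P : Subgroup ↥(N.comap π)).map (N.comap π).subtype).map H.subtype := ⟨_, rfl⟩
  have hQp : IsPGroup p Q := hQ ▸ (P.isPGroup'.map _).map _
  have hQH : Q ≤ H := hQ ▸ map_subtype_le _
  -- every element of the preimage of `N` is an element of `Q` times one centralizing `V`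
  have hdec : ∀ m : ↥H, π m ∈ N → ∃ x ∈ Q, x⁻¹ * (m : G) ∈ centralizer (V : Set G) := by
    intro m hm
    have hm' : (⟨π m, hm⟩ : N) ∈ ((P.mapSurjective hsurj : Sylow p N) : Subgroup N) := by
      rw [htop]; trivial
    rw [Sylow.coe_mapSurjective] at hm'
    obtain ⟨z, hz, hzm⟩ := hm'
    have e : π (z : ↥H) = π m := congrArg Subtype.val hzm
    refine ⟨((z : ↥H) : G), hQ ▸ ⟨_, ⟨z, hz, rfl⟩, rfl⟩, ?_⟩
    subst hπ
    exact mem_subgroupOf.1 (QuotientGroup.eq.1 e)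
  -- the fixed points of `Q` on `V` are nontrivial and `H`-invariant
  obtain ⟨U, hU⟩ : ∃ U : Subgroup G, U = V ⊓ centralizer (Q : Set G) := ⟨_, rfl⟩
  have hmem : ∀ u, u ∈ U ↔ u ∈ V ∧ ∀ m : ↥H, π m ∈ N → (m : G) * u = u * (m : G) := by
    intro u
    rw [hU, mem_inf, mem_centralizer_iff]
    refine ⟨fun ⟨h1, h2⟩ => ⟨h1, fun m hm => ?_⟩, fun ⟨h1, h2⟩ => ⟨h1, fun x hx => ?_⟩⟩
    · obtain ⟨x, hx, hc⟩ := hdec m hm
      have e1 := mem_centralizer_iff.1 hc u h1
      calc (m : G) * u = x * (x⁻¹ * (m : G) * u) := by group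
        _ = x * (u * (x⁻¹ * (m : G))) := by rw [e1]
        _ = x * u * (x⁻¹ * (m : G)) := by group
        _ = u * x * (x⁻¹ * (m : G)) := by rw [h2 x hx]
        _ = u * (m : G) := by group
    · have hxN : π ⟨x, hQH hx⟩ ∈ N := by
        rw [hQ] at hx
        obtain ⟨_, ⟨z, -, rfl⟩, hzx⟩ := hx
        rw [show (⟨x, _⟩ : ↥H) = (z : ↥H) from Subtype.ext hzx.symm]
        exact z.2
      exact h2 _ hxN
  have hUinv : H ≤ normalizer (U : Set G) := by
    have key : ∀ h ∈ H, ∀ u ∈ U, h * u * h⁻¹ ∈ U := by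
      intro h hh u hu
      obtain ⟨hu1, hu2⟩ := (hmem u).1 hu
      refine (hmem _).2 ⟨(mem_normalizer_iff.1 (hHV hh) u).1 hu1, fun m hm => ?_⟩
      have h1 := hu2 (⟨h, hh⟩⁻¹ * m * ⟨h, hh⟩) (by
        rw [map_mul, map_mul, map_inv]
        simpa using hNn.conj_mem _ hm (π ⟨h, hh⟩)⁻¹)
      simp only [Subgroup.coe_mul, Subgroup.coe_inv] at h1
      calc (m : G) * (h * u * h⁻¹) = h * (h⁻¹ * (m : G) * h * u) * h⁻¹ := by group
        _ = h * (u * (h⁻¹ * (m : G) * h)) * h⁻¹ := by rw [h1]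
        _ = h * u * h⁻¹ * (m : G) := by group
    intro h hh
    refine mem_normalizer_iff.2 fun u => ⟨key h hh u, fun hu => ?_⟩
    have := key h⁻¹ (H.inv_mem hh) _ hu
    rwa [show h⁻¹ * (h * u * h⁻¹) * h⁻¹⁻¹ = u by group] at this
  have hU1 : U ≠ ⊥ := by
    letI : MulAction Q V :=
      { smul := fun x v => ⟨(x : G) * (v : G) * (x : G)⁻¹, (mem_normalizer_iff.1 (hHV (hQH x.2)) _).1 v.2⟩
        one_smul := fun v => Subtype.ext (by show (1 : G) * (v : G) * (1 : G)⁻¹ = v; group)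
        mul_smul := fun x y v => Subtype.ext (by
          show ((x : G) * y) * (v : G) * ((x : G) * y)⁻¹ = (x : G) * ((y : G) * v * (y : G)⁻¹) * (x : G)⁻¹
          group) }
    have hVp : IsPGroup p V := fun v => ⟨1, Subtype.ext (by simpa using hV.2 v v.2)⟩
    haveI : Nontrivial V := (nontrivial_iff_ne_bot V).2 hV1
    obtain ⟨k, hk, hcard⟩ := hVp.nontrivial_iff_card.1 inferInstance
    obtain ⟨b, hb, hb1⟩ := hQp.exists_fixed_point_of_prime_dvd_card_of_fixed_point V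
      (hcard ▸ dvd_pow_self p hk.ne') (a := 1) (fun x => Subtype.ext (by
        show (x : G) * 1 * (x : G)⁻¹ = 1; group))
    intro hbot
    have hbU : (b : G) ∈ U := by
      rw [hU]
      exact ⟨b.2, mem_centralizer_iff.2 fun x hx => mul_inv_eq_iff_eq_mul.1
        (congrArg Subtype.val (hb ⟨x, hx⟩))⟩
    rw [hbot, mem_bot] at hbU
    exact hb1 (Subtype.ext hbU.symm)
  rcases hirr U (hU ▸ inf_le_left) hUinv with h | h
  · exact hU1 h
  refine hne (eq_bot_iff.2 fun q hq => ?_)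
  obtain ⟨m, rfl⟩ := hπs q
  rw [mem_bot, hπ, QuotientGroup.mk'_apply, QuotientGroup.eq_one_iff]
  refine mem_subgroupOf.2 (mem_centralizer_iff.2 fun v hv => ?_)
  exact (((hmem v).1 (h ▸ hv)).2 m hq).symm

/-- a nontrivial quadratic element gives a subgroup of the acting group mapping onto `SL₂(p)` -/
theorem exists_slTwo_of_quadratic (hp : p ≠ 2) (V H : Subgroup G) (hV : Cfsg.IsElementaryAbelian p V)
    (hHV : H ≤ normalizer (V : Set G))
    [hn : ((centralizer (V : Set G)).subgroupOf H).Normal]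
    (hcore : Cfsg.pCore p (↥H ⧸ (centralizer (V : Set G)).subgroupOf H) = ⊥) {a : G} (haH : a ∈ H)
    (hq : ⁅⁅V, zpowers a⁆, zpowers a⁆ = ⊥) (ha : a ∉ centralizer (V : Set G)) :
    ∃ (Y : Subgroup (↥H ⧸ (centralizer (V : Set G)).subgroupOf H))
      (φ : Y →* Matrix.SpecialLinearGroup (Fin 2) (ZMod p)), Function.Surjective φ := by
  classical
  obtain ⟨π, hπ⟩ : ∃ π : ↥H →* ↥H ⧸ (centralizer (V : Set G)).subgroupOf H,
      π = QuotientGroup.mk' _ := ⟨_, rfl⟩
  have hπs : Function.Surjective π := hπ ▸ QuotientGroup.mk'_surjective _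
  have hker : ∀ x : ↥H, π x = 1 ↔ (x : G) ∈ centralizer (V : Set G) := fun x => by
    rw [hπ, QuotientGroup.mk'_apply, QuotientGroup.eq_one_iff, mem_subgroupOf]
  have hnot : π ⟨a, haH⟩ ∉ Cfsg.pCore p _ := by
    rw [hcore, mem_bot, hker]; exact ha
  obtain ⟨g, y, hy, hye⟩ := CfsgLib.Qd.exists_pair_of_not_mem (p := p) π hπs hnot
  have hy' : (y : G) ∈ closure {a, (g : G) * a * (g : G)⁻¹} := by
    have := mem_map_of_mem H.subtype hy
    rwa [MonoidHom.map_closure, Set.image_pair] at this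
  obtain ⟨d⟩ := CfsgLib.Qd.exists_naturalPair hp V hV (hHV haH)
    (hHV (mul_mem (mul_mem g.2 haH) (inv_mem g.2))) hq (CfsgLib.Qd.quadratic_conj (hHV g.2) hq)
    ⟨_, hy', fun e he => hye e ((hker _).2 (by simpa using he))⟩
  have hKH : d.K ≤ H := d.K_le.trans ((closure_le _).2 (by
    rintro z (rfl | rfl)
    · exact haH
    · exact mul_mem (mul_mem g.2 haH) (inv_mem g.2)))
  obtain ⟨f, hf⟩ : ∃ f : ↥d.K →* ↥((d.K.subgroupOf H).map π), ∀ x,
      ((f x) : ↥H ⧸ (centralizer (V : Set G)).subgroupOf H) = π (inclusion hKH x) :=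
    ⟨(π.comp (inclusion hKH)).codRestrict _ fun x => ⟨inclusion hKH x, x.2, rfl⟩, fun _ => rfl⟩
  have hfs : Function.Surjective f := by
    rintro ⟨_, z, hz, rfl⟩
    exact ⟨⟨z, hz⟩, Subtype.ext (hf _)⟩
  have hle : f.ker ≤ d.ψ.ker := by
    intro x hx
    have h1 : (x : G) ∈ centralizer (V : Set G) :=
      (hker (inclusion hKH x)).1 (by rw [← hf, MonoidHom.mem_ker.1 hx]; rfl)
    rw [MonoidHom.mem_ker]
    refine Subtype.ext (Matrix.ext_of_mulVec_single fun i => ?_)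
    have h2 := d.ι_conj x (Multiplicative.ofAdd (Pi.single i 1))
    rw [← mem_centralizer_iff.1 h1 _ (d.ι_mem _), mul_inv_cancel_right] at h2
    have h3 := congrArg Multiplicative.toAdd (d.ι_inj h2)
    simp only [toAdd_ofAdd] at h3
    rw [← h3, Matrix.SpecialLinearGroup.coe_one, Matrix.one_mulVec]
  refine ⟨_, f.liftOfSurjective hfs ⟨d.ψ, hle⟩, fun z => ?_⟩
  obtain ⟨x, hx⟩ := d.ψ_surj z
  refine ⟨f x, ?_⟩
  rw [← hx]
  exact MonoidHom.liftOfRightInverse_comp_apply _ _ _ _ x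

end CfsgLib.QuadSimple
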