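import Cfsg.Agent.Lib.Lie.Chev.Tw.Ree.Group
import Cfsg.Agent.Lib.Lie.Chev.Tw.G2Simple

/-!
# A four-group in ²G₂(q)
-/

set_option autoImplicit false
set_option maxRecDepth 100000
set_option linter.unusedSectionVars false

namespace CfsgLib.QuadSimple

open scoped MatrixGroups

/-- an involution normalizing a subgroup of even order commutes with an involution inside it -/
theorem exists_commuting_involution {G : Type*} [Group G] [Finite G] {S : Subgroup G} {g : G}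
    (hg : g * g = 1) (hn : ∀ x ∈ S, g * x * g⁻¹ ∈ S) (hev : 2 ∣ Nat.card S) :
    ∃ z ∈ S, z * z = 1 ∧ z ≠ 1 ∧ g * z = z * g := by
  classical
  haveI : Fact (Nat.Prime 2) := ⟨Nat.prime_two⟩
  haveI := Fintype.ofFinite S
  have hT : 2 ∣ Fintype.card {x : S // x * x = 1} := by
    obtain ⟨σ, hσ⟩ : ∃ σ : Equiv.Perm S, ∀ x, σ x = x⁻¹ := ⟨Equiv.inv S, fun _ => rfl⟩
    have h2 : σ ^ 2 ^ 1 = 1 := Equiv.ext fun x => by
      rw [pow_one, pow_two, Equiv.Perm.mul_apply, hσ, hσ, inv_inv]; rfl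
    have h := Equiv.Perm.card_compl_support_modEq (p := 2) h2
    have hc : σ.supportᶜ.card = Fintype.card {x : S // x * x = 1} := by
      rw [Fintype.card_subtype]
      congr 1
      ext x
      rw [Finset.mem_compl, Equiv.Perm.notMem_support, hσ, Finset.mem_filter, inv_eq_iff_mul_eq_one]
      simp
    rw [hc] at h
    rw [Nat.card_eq_fintype_card] at hev
    exact (Nat.modEq_zero_iff_dvd.1 (h.trans (Nat.modEq_zero_iff_dvd.2 hev)))
  have hn' : ∀ x : {x : S // x * x = 1}, (⟨g * (x.1 : G) * g⁻¹, hn _ x.1.2⟩ : S) *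
      ⟨g * (x.1 : G) * g⁻¹, hn _ x.1.2⟩ = 1 := fun x => Subtype.ext (by
    show g * (x.1 : G) * g⁻¹ * (g * (x.1 : G) * g⁻¹) = 1
    rw [show g * (x.1 : G) * g⁻¹ * (g * (x.1 : G) * g⁻¹) = g * ((x.1 : G) * (x.1 : G)) * g⁻¹ by group,
      show (x.1 : G) * (x.1 : G) = 1 from congrArg Subtype.val x.2]
    group)
  obtain ⟨c, hc⟩ : ∃ c : {x : S // x * x = 1} → {x : S // x * x = 1},
      ∀ x, ((c x).1 : G) = g * (x.1 : G) * g⁻¹ := ⟨fun x => ⟨_, hn' x⟩, fun _ => rfl⟩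
  have hginv : g⁻¹ = g := inv_eq_of_mul_eq_one_right hg
  have hinvol : Function.Involutive c := fun x => by
    refine Subtype.ext (Subtype.ext ?_)
    rw [hc, hc, hginv, show g * (g * (x.1 : G) * g) * g = g * g * (x.1 : G) * (g * g) by group, hg]
    simp
  obtain ⟨τ, hτ⟩ : ∃ τ : Equiv.Perm {x : S // x * x = 1}, ∀ x, τ x = c x :=
    ⟨hinvol.toPerm c, fun _ => rfl⟩
  have h2 : τ ^ 2 ^ 1 = 1 := Equiv.ext fun x => by
    rw [pow_one, pow_two, Equiv.Perm.mul_apply, hτ, hτ, hinvol]; rfl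
  obtain ⟨b, hb, hb1⟩ := Equiv.Perm.exists_fixed_point_of_prime' (p := 2) hT h2
    (a := ⟨1, one_mul 1⟩) (by
      refine Subtype.ext (Subtype.ext ?_)
      rw [hτ, hc]
      simp)
  refine ⟨(b.1 : G), b.1.2, congrArg Subtype.val b.2,
    fun e => hb1 (Subtype.ext (Subtype.ext e)), ?_⟩
  have h1 : g * (b.1 : G) * g⁻¹ = (b.1 : G) := by rw [← hc, ← hτ, hb]
  exact mul_inv_eq_iff_eq_mul.1 h1

/-- commuting involutions from a transitive action with even two-point stabilisers -/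
theorem exists_four_group {G : Type*} [Group G] [Finite G] {B : Subgroup G}
    (hcore : B.normalCore = ⊥) (hinv : ∃ g : G, g * g = 1 ∧ g ≠ 1)
    (hB : ∀ g : G, g ∉ B → ∃ k ∈ B, g⁻¹ * k * g ∈ B ∧ k * k = 1 ∧ k ≠ 1) :
    ∃ a b : G, a * a = 1 ∧ b * b = 1 ∧ a ≠ 1 ∧ b ≠ 1 ∧ a ≠ b ∧ a * b = b * a := by
  obtain ⟨g₀, hg₀, hg₀1⟩ := hinv
  obtain ⟨c, hc⟩ : ∃ c : G, c * g₀ * c⁻¹ ∉ B := by
    by_contra hall
    push Not at hall
    exact hg₀1 (Subgroup.mem_bot.1 (hcore ▸ (hall : g₀ ∈ B.normalCore)))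
  obtain ⟨g, hgdef⟩ : ∃ g, g = c * g₀ * c⁻¹ := ⟨_, rfl⟩
  rw [← hgdef] at hc
  have hgg : g * g = 1 := by
    rw [hgdef, show c * g₀ * c⁻¹ * (c * g₀ * c⁻¹) = c * (g₀ * g₀) * c⁻¹ by group, hg₀]; group
  have hg1 : g ≠ 1 := fun e => hc (e ▸ B.one_mem)
  have hginv : g⁻¹ = g := inv_eq_of_mul_eq_one_right hgg
  obtain ⟨k, hk, hkg, hk2, hk1⟩ := hB g hc
  obtain ⟨S, hS⟩ : ∃ S : Subgroup G, S = B ⊓ B.comap (MulAut.conj g⁻¹).toMonoidHom := ⟨_, rfl⟩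
  have hmemS : ∀ x, x ∈ S ↔ x ∈ B ∧ g⁻¹ * x * g ∈ B := by
    intro x; rw [hS, Subgroup.mem_inf, Subgroup.mem_comap]; simp
  have hn : ∀ x ∈ S, g * x * g⁻¹ ∈ S := by
    intro x hx
    obtain ⟨h1, h2⟩ := (hmemS x).1 hx
    refine (hmemS _).2 ⟨?_, by rwa [show g⁻¹ * (g * x * g⁻¹) * g = x by group]⟩
    rwa [hginv, ← show g⁻¹ * x * g = g * x * g by rw [hginv]]
  have hev : 2 ∣ Nat.card S := by
    have := Subgroup.orderOf_dvd_natCard S ((hmemS k).2 ⟨hk, hkg⟩)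
    rwa [orderOf_eq_prime (p := 2) (by rw [pow_two, hk2]) hk1] at this
  obtain ⟨z, hz, hz2, hz1, hzg⟩ := exists_commuting_involution hgg hn hev
  exact ⟨g, z, hgg, hz2, hg1, hz1, fun e => hc (e ▸ ((hmemS z).1 hz).1), hzg⟩

open Cfsg.Lie CfsgLib.Lie.Chev in
theorem ree_four_group {K : Type*} [Field K] [Fintype K] {m : ℕ}
    (hK : Fintype.card K = 3 ^ (2 * m + 1)) :
    ∃ a b : ↥(twistedG2 K (3 ^ m)),
      a * a = 1 ∧ b * b = 1 ∧ a ≠ 1 ∧ b ≠ 1 ∧ a ≠ b ∧ a * b = b * a := by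
  obtain ⟨n, hn, -, hmove, -, hconj⟩ := TG2.moved_facts hK
  obtain ⟨hc, θ, hcu, hH, -⟩ := TG2.mem_torus_iff hK
  obtain ⟨hdef, hhval⟩ : ∃ h : GL chevG2.Idx K, h = TG2.C.G.torθ (TG2.par θ (-1 : Kˣ)) := ⟨_, rfl⟩
  have hmem := (hH hdef).2 ⟨-1, hhval⟩
  have hh1 : hdef ≠ 1 := by
    intro e
    have h1 : (-1 : Kˣ) = 1 := TG2.torθ_par_injective θ (by
      show TG2.C.G.torθ (TG2.par θ (-1 : Kˣ)) = TG2.C.G.torθ (TG2.par θ 1)
      rw [← hhval, e]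
      exact (map_one ((TG2.C.G.torθ (K := K)).comp (TG2.parHom θ))).symm)
    have h4 : (3 : K) = 0 := by exact_mod_cast CharP.cast_eq_zero K 3
    have h3 : (-1 : K) = 1 := by simpa using congrArg Units.val h1
    exact one_ne_zero (α := K) (by linear_combination h4 + h3)
  have hh2 : hdef * hdef = 1 := by
    rw [hhval]
    show ((TG2.C.G.torθ (K := K)).comp (TG2.parHom θ)) (-1) * ((TG2.C.G.torθ (K := K)).comp (TG2.parHom θ)) (-1) = 1
    rw [← map_mul, neg_mul_neg, one_mul, map_one]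
  obtain ⟨hHd, hHg⟩ := Subgroup.mem_inf.1 hmem
  refine exists_four_group (TG2.core hK) ⟨⟨hdef, hHg⟩, Subtype.ext hh2,
    fun e => hh1 (congrArg Subtype.val e)⟩ fun g hg => ?_
  have hgB : (g : GL chevG2.Idx K) ∉ chevG2.borelSubgroup K := fun h =>
    hg (Subgroup.mem_subgroupOf.2 (Subgroup.mem_inf.2 ⟨h, g.2⟩))
  obtain ⟨u, hu, hb⟩ := (hmove g g.2 hgB).2
  obtain ⟨huU, huG⟩ := Subgroup.mem_inf.1 hu
  have huB : u ∈ chevG2.borelSubgroup K := Subgroup.mem_sup_left huU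
  have hkG : u * hdef * u⁻¹ ∈ twistedG2 K (3 ^ m) := mul_mem (mul_mem huG hHg) (inv_mem huG)
  refine ⟨⟨u * hdef * u⁻¹, hkG⟩, Subgroup.mem_subgroupOf.2 (Subgroup.mem_inf.2
    ⟨mul_mem (mul_mem huB (Subgroup.mem_sup_right hHd)) (inv_mem huB), hkG⟩), ?_, ?_, ?_⟩
  · refine Subgroup.mem_subgroupOf.2 (Subgroup.mem_inf.2 ⟨?_, SetLike.coe_mem _⟩)
    show (g : GL chevG2.Idx K)⁻¹ * (u * hdef * u⁻¹) * g ∈ _
    rw [show (g : GL chevG2.Idx K)⁻¹ * (u * hdef * u⁻¹) * g =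
      ((u * n)⁻¹ * (g : GL chevG2.Idx K))⁻¹ * (n⁻¹ * hdef * n) * ((u * n)⁻¹ * (g : GL chevG2.Idx K)) by
      group]
    exact mul_mem (mul_mem (inv_mem hb) (hconj _ hHd).1) hb
  · refine Subtype.ext ?_
    show u * hdef * u⁻¹ * (u * hdef * u⁻¹) = 1
    rw [show u * hdef * u⁻¹ * (u * hdef * u⁻¹) = u * (hdef * hdef) * u⁻¹ by group, hh2]
    group
  · intro e
    exact hh1 (conj_eq_one_iff.1 (congrArg Subtype.val e))

open Cfsg.Lie CfsgLib.Lie.Chev in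
theorem ree_not_sixteen_dvd {K : Type*} [Field K] [Fintype K] {m : ℕ}
    (hK : Fintype.card K = 3 ^ (2 * m + 1)) :
    ¬ 16 ∣ Nat.card ↥(twistedG2 K (3 ^ m)) := by
  rw [(TG2.summary hK).2.2.2.1]
  intro h
  have h9 : 9 ^ m % 16 = 1 ∨ 9 ^ m % 16 = 9 := by
    clear h hK
    induction m with
    | zero => exact Or.inl rfl
    | succ k ih => rw [pow_succ]; omega
  obtain ⟨q, hq⟩ : ∃ q, 3 ^ (2 * m + 1) = q := ⟨_, rfl⟩
  have hq16 : q % 16 = 3 ∨ q % 16 = 11 := by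
    rw [← hq, pow_succ, pow_mul]; norm_num; omega
  rw [hq] at h
  have hcop : Nat.Coprime 16 (q ^ 3) := by
    have : Nat.Coprime 2 q := (Nat.prime_two.coprime_iff_not_dvd).2 (by omega)
    exact (this.pow_left 4).pow_right 3
  rw [mul_assoc] at h
  have h1 := hcop.dvd_of_dvd_mul_left h
  have h2 : (q - 1) * (q ^ 3 + 1) % 16 = 8 := by
    rw [Nat.mul_mod, Nat.add_mod, Nat.pow_mod]
    rcases hq16 with e | e
    · rw [show (q - 1) % 16 = 2 by omega, e]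
    · rw [show (q - 1) % 16 = 10 by omega, e]
  omega

end CfsgLib.QuadSimple
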