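import Cfsg.Agent.Lib.QuadSimple.Quat
import Cfsg.Agent.Lib.QuadSimple.Action
import Cfsg.Agent.Lib.QuadSimple.Ree
import Cfsg.Agent.Lib.Lie.PSL2Two

/-!
# No quadratic action of `PSL₂(q)`, `q` odd, and `²G₂(q)`
-/

set_option autoImplicit false
set_option linter.style.haveILetI false

namespace CfsgLib.QuadSimple

variable {p : ℕ} [Fact p.Prime]

theorem false_of_psl {F : Type*} [Field F] [Fintype F] (hodd : Odd (Fintype.card F)) (hp : p ≠ 2)
    {Y : Type*} [Group Y] (j : Y →* Matrix.ProjectiveSpecialLinearGroup (Fin 2) F)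
    (hj : Function.Injective j) (φ : Y →* Matrix.SpecialLinearGroup (Fin 2) (ZMod p))
    (hφ : Function.Surjective φ) : False := by
  classical
  refine false_of_dihedral hp j hj φ hφ fun h8 S => ?_
  have hodd' : Fintype.card F % 2 = 1 := Nat.odd_iff.1 hodd
  obtain ⟨q, hq⟩ : ∃ q, q = Fintype.card F := ⟨_, rfl⟩
  have hq1 : 1 < q := hq ▸ Fintype.one_lt_card
  have h16 : 16 ∣ q ^ 2 - 1 := by
    have h2 := CfsgLib.PSL2Two.two_ne_zero_of_odd (F := F) hodd'
    have hGL : Nat.card (GL (Fin 2) F) = (q ^ 2 - 1) * (q ^ 2 - q) := by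
      rw [Matrix.card_GL_field, Fin.prod_univ_two]; simp [hq]
    have hker : (Matrix.GeneralLinearGroup.det (n := Fin 2) (R := F)).ker =
        (Matrix.SpecialLinearGroup.toGL (n := Fin 2) (R := F)).range := by
      ext g
      refine ⟨fun h => ⟨⟨g.1, congrArg Units.val (MonoidHom.mem_ker.1 h)⟩, Units.ext rfl⟩, ?_⟩
      rintro ⟨A, rfl⟩
      exact MonoidHom.mem_ker.2 (Units.ext A.2)
    have h1 : Nat.card (Matrix.SpecialLinearGroup (Fin 2) F) * (q - 1) = Nat.card (GL (Fin 2) F) := by
      rw [← (Matrix.GeneralLinearGroup.det (n := Fin 2) (R := F)).ker.card_mul_index,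
        Subgroup.index_ker,
        MonoidHom.range_eq_top.2 Matrix.GeneralLinearGroup.det_surjective, Subgroup.card_top,
        Nat.card_units, Nat.card_eq_fintype_card (α := F), hker,
        Nat.card_congr (MonoidHom.ofInjective Matrix.SpecialLinearGroup.toGL_injective).toEquiv, hq]
    have h3 : Nat.card (Matrix.SpecialLinearGroup (Fin 2) F) = (q ^ 2 - 1) * q := by
      refine Nat.eq_of_mul_eq_mul_right (show 0 < q - 1 by omega) (h1.trans (hGL.trans ?_))
      rw [mul_assoc, Nat.mul_sub_one, pow_two]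
    have h5 : 16 ∣ (q ^ 2 - 1) * q := by
      rw [← h3, (Subgroup.center (Matrix.SpecialLinearGroup (Fin 2) F)).card_eq_card_quotient_mul_card_subgroup]
      refine (show 16 = 8 * 2 from rfl) ▸ Nat.mul_dvd_mul h8 ?_
      have hmem : (-1 : Matrix.SpecialLinearGroup (Fin 2) F) ∈
          Subgroup.center (Matrix.SpecialLinearGroup (Fin 2) F) := by
        rw [Subgroup.mem_center_iff]
        intro g
        simp
      have hord : orderOf (⟨-1, hmem⟩ : Subgroup.center (Matrix.SpecialLinearGroup (Fin 2) F)) = 2 := by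
        refine orderOf_eq_prime (Subtype.ext (by simp)) fun e => h2 ?_
        have e1 : (-1 : Matrix.SpecialLinearGroup (Fin 2) F).1 0 0 =
            (1 : Matrix.SpecialLinearGroup (Fin 2) F).1 0 0 :=
          congrArg (fun u : Subgroup.center (Matrix.SpecialLinearGroup (Fin 2) F) => u.1.1 0 0) e
        simp at e1
        linear_combination -e1
      exact hord.symm.dvd.trans <| orderOf_dvd_natCard (⟨-1, hmem⟩ : Subgroup.center (Matrix.SpecialLinearGroup (Fin 2) F))
    have hc : Nat.Coprime 16 q := by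
      have : Nat.Coprime 2 q := (Nat.prime_two.coprime_iff_not_dvd).2 (by omega)
      exact this.pow_left 4
    exact hc.dvd_of_dvd_mul_right h5
  obtain ⟨K, hK, -, hinv, -, -⟩ := CfsgLib.PSL2Two.sylow_structure hodd' (hq ▸ h16) S
  exact ⟨K, hK, hinv⟩

theorem false_of_ree {K : Type*} [Field K] [Fintype K] {m : ℕ}
    (hK : Fintype.card K = 3 ^ (2 * m + 1)) (hp : p ≠ 2) {Y : Type*} [Group Y]
    (j : Y →* ↥(Cfsg.Lie.twistedG2 K (3 ^ m))) (hj : Function.Injective j)
    (φ : Y →* Matrix.SpecialLinearGroup (Fin 2) (ZMod p)) (hφ : Function.Surjective φ) : False :=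
  false_of_klein hp j hj φ hφ (ree_not_sixteen_dvd hK) (ree_four_group hK)

end CfsgLib.QuadSimple
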