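import Mathlib

/-!
# Groups with dihedral or Klein-containing Sylow 2-subgroups have no section `SL₂(p)`
-/

set_option autoImplicit false
set_option linter.style.haveILetI false
set_option linter.unusedSectionVars false

namespace CfsgLib.QuadSimple

open Matrix

variable {p : ℕ} [Fact p.Prime]

local notation "SLp" => Matrix.SpecialLinearGroup (Fin 2) (ZMod p)

theorem two_ne_zero_zmod (hp : p ≠ 2) : (2 : ZMod p) ≠ 0 := fun h => by
  have h1 : p ∣ 2 := (ZMod.natCast_eq_zero_iff 2 p).1 (by exact_mod_cast h)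
  exact hp ((Nat.prime_dvd_prime_iff_eq (Fact.out : p.Prime) Nat.prime_two).1 h1)

/-- an element of order at most two of `SL₂(p)` is scalar -/
theorem eq_one_or_eq_of_sq (hp : p ≠ 2) {A B : SLp} (hA : A * A = 1) (hB : B * B = 1)
    (hA1 : A ≠ 1) (hB1 : B ≠ 1) : A = B := by
  have key : ∀ A : SLp, A * A = 1 → A ≠ 1 → A.1 = -1 := by
    intro A h h1
    have hd : A.1 0 0 * A.1 1 1 - A.1 0 1 * A.1 1 0 = 1 := by
      rw [← Matrix.det_fin_two]; exact A.2
    have e : A.1 * A.1 = 1 := congrArg Subtype.val h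
    have e00 := congrFun (congrFun e 0) 0
    have e01 := congrFun (congrFun e 0) 1
    have e10 := congrFun (congrFun e 1) 0
    have e11 := congrFun (congrFun e 1) 1
    simp [Matrix.mul_apply, Fin.sum_univ_two] at e00 e01 e10 e11
    have ht : A.1 0 0 + A.1 1 1 ≠ 0 := fun ht => two_ne_zero_zmod hp (by
      linear_combination (-1 : ZMod p) * hd - e00 + A.1 0 0 * ht)
    have hb : A.1 0 1 = 0 := (mul_eq_zero.1 (by linear_combination e01 :
      (A.1 0 0 + A.1 1 1) * A.1 0 1 = 0)).resolve_left ht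
    have hc : A.1 1 0 = 0 := (mul_eq_zero.1 (by linear_combination e10 :
      (A.1 0 0 + A.1 1 1) * A.1 1 0 = 0)).resolve_left ht
    rw [hb, zero_mul, sub_zero] at hd
    rw [hb, zero_mul, add_zero] at e00
    rcases mul_self_eq_one_iff.1 e00 with ha | ha
    · rw [ha, one_mul] at hd
      refine absurd (Subtype.ext ?_) h1
      ext r s
      fin_cases r <;> fin_cases s <;> simp [ha, hb, hc, hd]
    · rw [ha, neg_one_mul] at hd
      have hd' : A.1 1 1 = -1 := by linear_combination -hd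
      ext r s
      fin_cases r <;> fin_cases s <;> simp [ha, hb, hc, hd']
  exact Subtype.ext ((key A hA hA1).trans (key B hB hB1).symm)

/-- two anticommuting elements of order four in `SL₂(p)` -/
theorem exists_quat (hp : p ≠ 2) :
    ∃ i j c : SLp, i * i = c ∧ j * j = c ∧ c * c = 1 ∧ c ≠ 1 ∧ j * i * j⁻¹ = i⁻¹ := by
  obtain ⟨a, b, hab⟩ : ∃ a b : ZMod p, a ^ 2 + b ^ 2 = -1 := ZMod.sq_add_sq p (-1)
  obtain ⟨c, hc⟩ : ∃ c : SLp, c.1 = -1 :=
    ⟨⟨-1, by rw [Matrix.det_neg, Matrix.det_one]; simp⟩, rfl⟩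
  obtain ⟨i, hi⟩ : ∃ i : SLp, i.1 = !![0, 1; -1, 0] :=
    ⟨⟨!![0, 1; -1, 0], by simp [Matrix.det_fin_two]⟩, rfl⟩
  obtain ⟨j, hj⟩ : ∃ j : SLp, j.1 = !![a, b; b, -a] :=
    ⟨⟨!![a, b; b, -a], by
      simp [Matrix.det_fin_two]
      linear_combination -hab⟩, rfl⟩
  have hii : i * i = c := by
    apply Subtype.ext
    rw [Matrix.SpecialLinearGroup.coe_mul, hi, hc]
    ext r s
    fin_cases r <;> fin_cases s <;> simp [Matrix.mul_apply, Fin.sum_univ_two]
  have hjj : j * j = c := by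
    apply Subtype.ext
    rw [Matrix.SpecialLinearGroup.coe_mul, hj, hc]
    ext r s
    fin_cases r <;> fin_cases s <;> simp [Matrix.mul_apply, Fin.sum_univ_two] <;>
      first | linear_combination hab | ring
  have hji : i * (j * i) = j := by
    apply Subtype.ext
    rw [Matrix.SpecialLinearGroup.coe_mul, Matrix.SpecialLinearGroup.coe_mul, hi, hj]
    ext r s
    fin_cases r <;> fin_cases s <;> simp [Matrix.mul_apply, Fin.sum_univ_two]
  refine ⟨i, j, c, hii, hjj, ?_, ?_, ?_⟩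
  · apply Subtype.ext
    rw [Matrix.SpecialLinearGroup.coe_mul, hc, neg_one_mul, neg_neg]
    rfl
  · intro h
    have h1 : c.1 0 0 = (1 : SLp).1 0 0 := by rw [h]
    rw [hc] at h1
    simp at h1
    exact two_ne_zero_zmod hp (by linear_combination -h1)
  · rw [mul_inv_eq_iff_eq_mul, eq_inv_mul_iff_mul_eq]
    exact hji

variable {X Y : Type*} [Group X] [Finite X] [Group Y]

/-- a 2-group above a quaternion subgroup of `SL₂(p)` -/
theorem exists_two_group (hp : p ≠ 2) (j : Y →* X) (hj : Function.Injective j) (φ : Y →* SLp)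
    (hφ : Function.Surjective φ) :
    ∃ (S : Subgroup Y) (x y : Y) (c : SLp), IsPGroup 2 S ∧ x ∈ S ∧ y ∈ S ∧ φ x * φ x = c ∧
      φ y * φ y = c ∧ c * c = 1 ∧ c ≠ 1 ∧ φ y * φ x * (φ y)⁻¹ = (φ x)⁻¹ := by
  haveI : Finite Y := Finite.of_injective j hj
  haveI : Fact (Nat.Prime 2) := ⟨Nat.prime_two⟩
  obtain ⟨a, b, c, h1, h2, h3, h4, h5⟩ := exists_quat (p := p) hp
  have h4' : ∀ z : SLp, z * z = c → IsPGroup 2 (Subgroup.zpowers z) := by
    intro z hz
    obtain ⟨k, -, hk⟩ := (Nat.dvd_prime_pow Nat.prime_two (m := 2)).1 (orderOf_dvd_of_pow_eq_one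
      (show z ^ (2 ^ 2) = 1 by rw [show (2:ℕ) ^ 2 = 2 + 2 from rfl, pow_add, pow_two, hz, h3]))
    exact IsPGroup.of_card (n := k) (by rw [Nat.card_zpowers, hk])
  obtain ⟨Q, hQ⟩ : ∃ Q : Subgroup SLp, Q = Subgroup.zpowers b ⊔ Subgroup.zpowers a := ⟨_, rfl⟩
  have hQ2 : IsPGroup 2 Q := by
    rw [hQ]
    refine (h4' b h2).to_sup_of_normal_right' (h4' a h1) ?_
    rw [Subgroup.zpowers_le, Subgroup.mem_normalizer_iff]
    intro z
    have hc' : ∀ n : ℤ, b * a ^ n * b⁻¹ = a ^ (-n) := fun n => by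
      rw [← conj_zpow, h5, _root_.inv_zpow, _root_.zpow_neg]
    constructor
    · rintro ⟨n, rfl⟩
      exact ⟨-n, (hc' n).symm⟩
    · rintro ⟨n, hn⟩
      refine ⟨-n, ?_⟩
      have := hc' (-n)
      rw [neg_neg] at this
      show a ^ (-n) = z
      have h6 : b * a ^ (-n) * b⁻¹ = b * z * b⁻¹ := this.trans hn
      exact mul_left_cancel (mul_right_cancel h6)
  have hsurj : Function.Surjective (φ.subgroupComap Q) :=
    fun q => by obtain ⟨y, hy⟩ := hφ q; exact ⟨⟨y, show φ y ∈ Q by rw [hy]; exact q.2⟩, Subtype.ext hy⟩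
  obtain ⟨P⟩ := (inferInstance : Nonempty (Sylow 2 ↥(Q.comap φ)))
  have htop : ((P.mapSurjective hsurj : Sylow 2 Q) : Subgroup Q) = ⊤ :=
    ((P.mapSurjective hsurj).is_maximal' (hQ2.of_equiv Subgroup.topEquiv.symm) le_top).symm
  have hlift : ∀ q ∈ Q, ∃ z ∈ (P : Subgroup ↥(Q.comap φ)).map (Q.comap φ).subtype, φ z = q := by
    intro q hq
    have hm : (⟨q, hq⟩ : Q) ∈ ((P.mapSurjective hsurj : Sylow 2 Q) : Subgroup Q) := by
      rw [htop]; trivial
    rw [Sylow.coe_mapSurjective] at hm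
    obtain ⟨z, hz, hzq⟩ := hm
    exact ⟨_, ⟨z, hz, rfl⟩, congrArg Subtype.val hzq⟩
  obtain ⟨x, hx, hxa⟩ := hlift a (hQ ▸ Subgroup.mem_sup_right (Subgroup.mem_zpowers a))
  obtain ⟨y, hy, hyb⟩ := hlift b (hQ ▸ Subgroup.mem_sup_left (Subgroup.mem_zpowers b))
  refine ⟨_, x, y, c, P.isPGroup'.map _, hx, hy, ?_⟩
  rw [hxa, hyb]
  exact ⟨h1, h2, h3, h4, h5⟩

/-- no section `SL₂(p)` when the Sylow 2-subgroups are dihedral or small -/
theorem false_of_dihedral (hp : p ≠ 2) (j : Y →* X) (hj : Function.Injective j) (φ : Y →* SLp)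
    (hφ : Function.Surjective φ)
    (h : 8 ∣ Nat.card X → ∀ S : Sylow 2 X, ∃ K : Subgroup ↥(S : Subgroup X), IsCyclic K ∧
      ∀ x, x ∉ K → x * x = 1) : False := by
  haveI : Finite Y := Finite.of_injective j hj
  haveI : Fact (Nat.Prime 2) := ⟨Nat.prime_two⟩
  obtain ⟨S, x, y, c, hS, hx, hy, h1, h2, h3, h4, h5⟩ := exists_two_group hp j hj φ hφ
  have hne : φ x * φ y ≠ φ y * φ x := by
    intro e
    rw [← e, mul_assoc, mul_inv_cancel, mul_one, eq_inv_iff_mul_eq_one] at h5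
    exact h4 (h1 ▸ h5)
  obtain ⟨P, hP⟩ := (hS.map j).exists_le_sylow
  have h8 : 8 ∣ Nat.card X := by
    obtain ⟨n, hn⟩ := IsPGroup.iff_card.1 (hS.map φ)
    have hd : orderOf (φ x) = 2 ^ 2 := by
      refine orderOf_eq_prime_pow (n := 1) ?_ ?_
      · rw [pow_one, pow_two, h1]; exact h4
      · rw [show 2 ^ (1 + 1) = 2 + 2 from rfl, pow_add, pow_two, h1, h3]
    have h4d : 2 ^ 2 ∣ Nat.card ↥(S.map φ) := by
      rw [← hd]
      exact Subgroup.orderOf_dvd_natCard _ (Subgroup.mem_map_of_mem φ hx)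
    have hlt : 2 ^ 2 < Nat.card ↥(S.map φ) := by
      refine lt_of_le_of_ne (Nat.le_of_dvd Nat.card_pos h4d) fun e => hne ?_
      have heq : Subgroup.zpowers (φ x) = S.map φ :=
        Subgroup.eq_of_le_of_card_ge (Subgroup.zpowers_le.2 (Subgroup.mem_map_of_mem φ hx))
          (by rw [Nat.card_zpowers, hd, e])
      have hmem : φ y ∈ Subgroup.zpowers (φ x) := heq ▸ Subgroup.mem_map_of_mem φ hy
      obtain ⟨k, hk⟩ := hmem
      rw [← hk]
      exact (Commute.self_zpow (φ x) k).eq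
    rw [hn] at hlt
    have h3n : 3 ≤ n := (Nat.pow_lt_pow_iff_right (by norm_num)).1 hlt
    calc (8 : ℕ) = 2 ^ 3 := rfl
      _ ∣ 2 ^ n := pow_dvd_pow 2 h3n
      _ = Nat.card ↥(S.map φ) := hn.symm
      _ ∣ Nat.card ↥S := Subgroup.card_map_dvd S φ
      _ ∣ Nat.card Y := Subgroup.card_subgroup_dvd_card S
      _ ∣ Nat.card X := Subgroup.card_dvd_of_injective j hj
  obtain ⟨K, hK, hinv⟩ := h h8 P
  haveI := hK
  have hin : ∀ z (hz : z ∈ S), φ z * φ z = c →
      (⟨j z, hP (Subgroup.mem_map_of_mem j hz)⟩ : ↥(P : Subgroup X)) ∈ K := by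
    intro z hz hzc
    by_contra hnot
    have e : j (z * z) = 1 := by rw [map_mul]; exact congrArg Subtype.val (hinv _ hnot)
    rw [← map_one j] at e
    exact h4 (by rw [← hzc, ← map_mul, hj e, map_one])
  refine hne ?_
  have e : j (x * y) = j (y * x) := by
    obtain ⟨g, hg⟩ := IsCyclic.exists_generator (α := ↥K)
    obtain ⟨u, hu⟩ := Subgroup.mem_zpowers_iff.1 (hg ⟨_, hin x hx h1⟩)
    obtain ⟨v, hv⟩ := Subgroup.mem_zpowers_iff.1 (hg ⟨_, hin y hy h2⟩)
    have hcm : (⟨_, hin x hx h1⟩ : ↥K) * ⟨_, hin y hy h2⟩ = ⟨_, hin y hy h2⟩ * ⟨_, hin x hx h1⟩ := by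
      rw [← hu, ← hv]
      exact ((Commute.refl g).zpow_zpow u v).eq
    rw [map_mul, map_mul]
    exact congrArg (fun w : ↥K => ((w : ↥(P : Subgroup X)) : X)) hcm
  rw [← map_mul, ← map_mul, hj e]

/-- no section `SL₂(p)` when a Sylow 2-subgroup has order at most eight and contains a four-group -/
theorem false_of_klein (hp : p ≠ 2) (j : Y →* X) (hj : Function.Injective j) (φ : Y →* SLp)
    (hφ : Function.Surjective φ) (h16 : ¬ 16 ∣ Nat.card X)
    (hK : ∃ a b : X, a * a = 1 ∧ b * b = 1 ∧ a ≠ 1 ∧ b ≠ 1 ∧ a ≠ b ∧ a * b = b * a) : False := by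
  haveI : Finite Y := Finite.of_injective j hj
  haveI : Fact (Nat.Prime 2) := ⟨Nat.prime_two⟩
  obtain ⟨S, x, y, c, hS, hx, hy, h1, h2, h3, h4, h5⟩ := exists_two_group hp j hj φ hφ
  obtain ⟨a, b, ha, hb, ha1, hb1, hab, hcomm⟩ := hK
  have hd : orderOf (φ x) = 2 ^ 2 := by
    refine orderOf_eq_prime_pow (n := 1) ?_ ?_
    · rw [pow_one, pow_two, h1]; exact h4
    · rw [show 2 ^ (1 + 1) = 2 + 2 from rfl, pow_add, pow_two, h1, h3]
  have hne : φ x * φ y ≠ φ y * φ x := by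
    intro e
    rw [← e, mul_assoc, mul_inv_cancel, mul_one, eq_inv_iff_mul_eq_one] at h5
    exact h4 (h1 ▸ h5)
  obtain ⟨n, hn⟩ := IsPGroup.iff_card.1 (hS.map φ)
  have hlt : 2 ^ 2 < Nat.card ↥(S.map φ) := by
    refine lt_of_le_of_ne (Nat.le_of_dvd Nat.card_pos ?_) fun e => hne ?_
    · rw [← hd]
      exact Subgroup.orderOf_dvd_natCard _ (Subgroup.mem_map_of_mem φ hx)
    · have heq : Subgroup.zpowers (φ x) = S.map φ :=
        Subgroup.eq_of_le_of_card_ge (Subgroup.zpowers_le.2 (Subgroup.mem_map_of_mem φ hx))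
          (by rw [Nat.card_zpowers, hd, e])
      have hmem : φ y ∈ Subgroup.zpowers (φ x) := heq ▸ Subgroup.mem_map_of_mem φ hy
      obtain ⟨k, hk⟩ := hmem
      rw [← hk]
      exact (Commute.self_zpow (φ x) k).eq
  rw [hn] at hlt
  have h3n : 3 ≤ n := (Nat.pow_lt_pow_iff_right (by norm_num)).1 hlt
  obtain ⟨P, hP⟩ := (hS.map j).exists_le_sylow
  obtain ⟨k, hk⟩ := IsPGroup.iff_card.1 P.isPGroup'
  have hk3 : k ≤ 3 := by
    by_contra hlt'
    push Not at hlt'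
    exact h16 (((pow_dvd_pow 2 hlt' : (2:ℕ) ^ 4 ∣ 2 ^ k).trans (by rw [← hk])).trans
      (Subgroup.card_subgroup_dvd_card _))
  have hSP : Nat.card ↥(S.map j) ≤ Nat.card ↥(P : Subgroup X) := Subgroup.card_le_of_le hP
  have hSj : Nat.card ↥(S.map j) = Nat.card ↥S :=
    (Nat.card_congr (S.equivMapOfInjective j hj).toEquiv).symm
  have hge : 2 ^ n ≤ Nat.card ↥S := hn ▸ Nat.le_of_dvd Nat.card_pos (Subgroup.card_map_dvd S φ)
  have h2k : 2 ^ k ≤ 2 ^ n := Nat.pow_le_pow_right (by norm_num) (hk3.trans h3n)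
  rw [hk] at hSP
  have hPeq : (P : Subgroup X) = S.map j :=
    (Subgroup.eq_of_le_of_card_ge hP (by rw [hk]; omega)).symm
  have hcard : Nat.card ↥S = Nat.card ↥(S.map φ) := by omega
  have hinj : Function.Bijective (φ.subgroupMap S) :=
    (Nat.bijective_iff_surjective_and_card _).2 ⟨MonoidHom.subgroupMap_surjective φ S, hcard⟩
  have huniq : ∀ z ∈ (P : Subgroup X), ∀ w ∈ (P : Subgroup X), z * z = 1 → w * w = 1 → z ≠ 1 →
      w ≠ 1 → z = w := by
    intro z hz w hw hz2 hw2 hz1 hw1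
    rw [hPeq] at hz hw
    obtain ⟨z, hzS, rfl⟩ := hz
    obtain ⟨w, hwS, rfl⟩ := hw
    have hfz : ∀ u ∈ S, j u * j u = 1 → j u ≠ 1 → φ u * φ u = 1 ∧ φ u ≠ 1 := by
      intro u hu hu2 hu1
      refine ⟨by rw [← map_mul, hj (show j (u * u) = j 1 by rw [map_mul, map_one, hu2]), map_one],
        fun e => hu1 ?_⟩
      have : (⟨u, hu⟩ : ↥S) = 1 := hinj.1 (Subtype.ext (by simpa using e))
      rw [show u = 1 from congrArg Subtype.val this, map_one]
    have e := eq_one_or_eq_of_sq hp (hfz z hzS hz2 hz1).1 (hfz w hwS hw2 hw1).1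
      (hfz z hzS hz2 hz1).2 (hfz w hwS hw2 hw1).2
    have : (⟨z, hzS⟩ : ↥S) = ⟨w, hwS⟩ := hinj.1 (Subtype.ext e)
    rw [show z = w from congrArg Subtype.val this]
  have hp2 : ∀ u : X, u * u = 1 → IsPGroup 2 (Subgroup.zpowers u) := by
    intro u hu
    obtain ⟨k', -, hk'⟩ := (Nat.dvd_prime_pow Nat.prime_two (m := 1)).1 (orderOf_dvd_of_pow_eq_one
      (show u ^ (2 ^ 1) = 1 by rw [pow_one, pow_two, hu]))
    exact IsPGroup.of_card (n := k') (by rw [Nat.card_zpowers, hk'])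
  have hV : IsPGroup 2 (Subgroup.zpowers a ⊔ Subgroup.zpowers b : Subgroup X) := by
    refine (hp2 a ha).to_sup_of_normal_right' (hp2 b hb) ?_
    rw [Subgroup.zpowers_le]
    refine Subgroup.centralizer_le_normalizer _ (Subgroup.mem_centralizer_iff.2 ?_)
    rintro u ⟨i, rfl⟩
    exact ((show Commute a b from hcomm).zpow_right i).symm.eq
  obtain ⟨R, hR⟩ := hV.exists_le_sylow
  obtain ⟨g, hg⟩ := MulAction.exists_smul_eq X R P
  have hmem : ∀ u ∈ (R : Subgroup X), g * u * g⁻¹ ∈ (P : Subgroup X) := fun u hu => by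
    rw [← hg, Sylow.coe_subgroup_smul]; exact ⟨u, hu, rfl⟩
  have hsq : ∀ u : X, u * u = 1 → g * u * g⁻¹ * (g * u * g⁻¹) = 1 := fun u hu => by
    rw [show g * u * g⁻¹ * (g * u * g⁻¹) = g * (u * u) * g⁻¹ by group, hu]; group
  exact hab (mul_left_cancel (mul_right_cancel
    (huniq _ (hmem a (hR (Subgroup.mem_sup_left (Subgroup.mem_zpowers a))))
      _ (hmem b (hR (Subgroup.mem_sup_right (Subgroup.mem_zpowers b)))) (hsq a ha) (hsq b hb)
      (fun e => ha1 (conj_eq_one_iff.1 e)) (fun e => hb1 (conj_eq_one_iff.1 e)))))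

end CfsgLib.QuadSimple
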